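import Mathlib
import Groth.Prelude.Def_Wider
import Groth.Agent.TorRegLib.Basic
import Groth.Agent.TorSESLib.Basic
import Groth.Agent.LocCohLib.ChangeSupport
import Groth.Agent.LocCohLib.Facts

/-! # Tor of the top local cohomology of a Cohen–Macaulay local ring with the residue field -/

set_option autoImplicit false
set_option maxHeartbeats 1000000

universe u

open CategoryTheory CategoryTheory.Limits MonoidalCategory

namespace GorTorLib

variable {A : Type u} [CommRing A]

/-- Multiplication by `x` on `N` is zero ⇒ `Tor_i(M, N)` is killed by `x`. -/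
theorem smul_homology_eq_zero (M N : ModuleCat.{u} A) (x : A) (hx : x • 𝟙 N = 0) (i : ℕ)
    (y : (TorRegLib.G (projectiveResolution N) M).homology i) : x • y = 0 := by
  let P := projectiveResolution N
  let F := (tensoringLeft (ModuleCat.{u} A)).obj M
  have hh : Homotopy (x • 𝟙 P.complex) 0 :=
    ProjectiveResolution.liftHomotopyZero (Q := P) (x • 𝟙 P.complex) (by
      ext : 1
      refine ModuleCat.hom_ext (LinearMap.ext fun z => ?_)
      show (P.π.f 0).hom (x • z) = 0
      rw [map_smul]
      exact ConcreteCategory.congr_hom hx ((P.π.f 0).hom z))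
  have h0 := (F.mapHomotopy hh).homologyMap_eq i
  have h1 : (F.mapHomologicalComplex (ComplexShape.down ℕ)).map (x • 𝟙 P.complex) =
      TorRegLib.Gmap P (x • 𝟙 M) := by
    refine HomologicalComplex.hom_ext _ _ fun j => ?_
    rw [TorRegLib.Gmap_smul_id]
    refine ModuleCat.hom_ext (TensorProduct.ext' fun m p => ?_)
    show m ⊗ₜ[A] (x • p) = x • (m ⊗ₜ[A] p)
    exact TensorProduct.tmul_smul x m p
  have h2 : x • 𝟙 ((TorRegLib.G P M).homology i) = 0 :=
    (TorRegLib.homologyMap_Gmap_smul P M x i).symm.trans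
      ((congrArg (fun t : TorRegLib.G P M ⟶ TorRegLib.G P M => HomologicalComplex.homologyMap t i) h1).symm.trans
        (h0.trans ((congrArg (fun t => HomologicalComplex.homologyMap t i)
          ((F.mapHomologicalComplex (ComplexShape.down ℕ)).map_zero _ _)).trans
            (HomologicalComplex.homologyMap_zero _ _ _))))
  exact ConcreteCategory.congr_hom h2 y

/-- An element killing `N` and invertible on `M` kills all `Tor`. -/
theorem isZero_tor_of_bijective (M N : ModuleCat.{u} A) (x : A) (hx : x • 𝟙 N = 0)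
    (hb : Function.Bijective fun m : M => x • m) (i : ℕ) :
    IsZero (((Tor (ModuleCat.{u} A) i).obj M).obj N) := by
  refine IsZero.of_iso ?_ (TorSESLib.torIso N M i)
  let P := projectiveResolution N
  haveI : IsIso (x • 𝟙 M) := by
    rw [ConcreteCategory.isIso_iff_bijective]
    exact hb
  haveI : ∀ j, IsIso ((TorRegLib.Gmap P (x • 𝟙 M)).f j) := fun j =>
    inferInstanceAs (IsIso (((tensoringLeft (ModuleCat.{u} A)).map (x • 𝟙 M)).app (P.complex.X j)))
  haveI : IsIso (TorRegLib.Gmap P (x • 𝟙 M)) := HomologicalComplex.Hom.isIso_of_components _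
  haveI : IsIso (HomologicalComplex.homologyMap (TorRegLib.Gmap P (x • 𝟙 M)) i) :=
    inferInstanceAs (IsIso ((HomologicalComplex.homologyFunctor _ _ i).map _))
  have hi := ConcreteCategory.bijective_of_isIso (HomologicalComplex.homologyMap (TorRegLib.Gmap P (x • 𝟙 M)) i)
  rw [TorRegLib.homologyMap_Gmap_smul] at hi
  haveI : Subsingleton ((TorRegLib.G P M).homology i : Type u) :=
    ⟨fun a b => hi.1 ((smul_homology_eq_zero M N x hx i a).trans (smul_homology_eq_zero M N x hx i b).symm)⟩
  exact ModuleCat.isZero_of_subsingleton ((TorRegLib.G P M).homology i)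

/-- `Tor(M, N)` is `N` concentrated in degree `r`. -/
def Conc (N : ModuleCat.{u} A) (r : ℕ) (M : ModuleCat.{u} A) : Prop :=
  (∀ i, i ≠ r → IsZero (((Tor (ModuleCat.{u} A) i).obj M).obj N)) ∧
    Nonempty (((Tor (ModuleCat.{u} A) r).obj M).obj N ≅ N)

theorem Conc.congr {N M M' : ModuleCat.{u} A} {r : ℕ} (e : M ≅ M') (h : Conc N r M) : Conc N r M' :=
  ⟨fun i hi => (h.1 i hi).of_iso (((Tor (ModuleCat.{u} A) i).mapIso e).app N).symm,
    h.2.map fun q => ((((Tor (ModuleCat.{u} A) r).mapIso e).app N).symm ≪≫ q)⟩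

theorem conc_self (N : ModuleCat.{u} A) : Conc N 0 (ModuleCat.of A A) :=
  ⟨fun i hi => TorSESLib.isZero_tor_of_flat N (ModuleCat.of A A) (Nat.pos_of_ne_zero hi),
    ⟨TorSESLib.torIso N _ 0 ≪≫
      ((TorRegLib.h0Equiv (projectiveResolution N) (ModuleCat.of A A)).trans
        (TensorProduct.lid A N)).toModuleIso⟩⟩

/-- Shift along a short exact sequence with Tor-acyclic middle term. -/
theorem Conc.shift {S : ShortComplex (ModuleCat.{u} A)} (hS : S.ShortExact) {N : ModuleCat.{u} A} {r : ℕ}
    (h₁ : Conc N r S.X₁) (h₂ : ∀ i, IsZero (((Tor (ModuleCat.{u} A) i).obj S.X₂).obj N)) :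
    Conc N (r + 1) S.X₃ := by
  have hC := TorSESLib.cx_shortExact S N hS
  have h₂' : ∀ i, IsZero ((TorSESLib.cx S N).X₂.homology i) := fun i => (h₂ i).of_iso (TorSESLib.torIso N S.X₂ i).symm
  have e : ∀ i, ((Tor (ModuleCat.{u} A) (i + 1)).obj S.X₃).obj N ≅ ((Tor (ModuleCat.{u} A) i).obj S.X₁).obj N := by
    intro i
    exact TorSESLib.torIso N S.X₃ (i + 1) ≪≫ hC.δIso (i + 1) i (by simp) (h₂' (i + 1)) (h₂' i) ≪≫ (TorSESLib.torIso N S.X₁ i).symm
  refine ⟨fun i hi => ?_, h₁.2.map fun q => e r ≪≫ q⟩
  cases i with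
  | zero =>
    refine IsZero.of_iso ?_ (TorSESLib.torIso N S.X₃ 0)
    haveI := hC.epi_g
    haveI : Epi ((TorSESLib.cx S N).g.f 0) :=
      inferInstanceAs (Epi ((HomologicalComplex.eval _ _ 0).map (TorSESLib.cx S N).g))
    have hepi : Epi (HomologicalComplex.homologyMap (TorSESLib.cx S N).g 0) :=
      HomologicalComplex.epi_homologyMap_of_epi_of_not_rel _ _ (fun j => by simp)
    exact @IsZero.of_epi _ _ _ _ _ (HomologicalComplex.homologyMap (TorSESLib.cx S N).g 0) hepi (h₂' 0)
  | succ j => exact (h₁.1 j (by omega)).of_iso (e j)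

variable [IsNoetherianRing A] [IsLocalRing A]

open LocCohLib

theorem conc_localCohomology (rs : List A) (hrs : RingTheory.Sequence.IsWeaklyRegular A rs)
    (hm : ∀ r ∈ rs, r ∈ IsLocalRing.maximalIdeal A) :
    Conc (ModuleCat.of A (IsLocalRing.ResidueField A)) rs.length
      (ModuleCat.of A (LocCoh.H (Ideal.ofList rs) rs.length A)) := by
  suffices H : ∀ k ≤ rs.length, Conc (ModuleCat.of A (IsLocalRing.ResidueField A)) k
      (ModuleCat.of A (LocCoh.H (Ideal.ofList (rs.take k)) k A)) by
    have := H rs.length le_rfl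
    rwa [List.take_length] at this
  intro k
  induction k with
  | zero =>
    intro _
    rw [List.take_zero]
    obtain ⟨e⟩ := H0Equiv_of_torsion (I := Ideal.ofList ([] : List A)) A (fun m => ⟨1, fun a ha => by
      rw [Ideal.ofList_nil, pow_one, Ideal.mem_bot] at ha
      rw [ha, zero_smul]⟩)
    exact (conc_self _).congr e.symm.toModuleIso
  | succ k ih =>
    intro hk
    have hk' : k < rs.length := hk
    let I := Ideal.ofList (rs.take k)
    let J := Ideal.ofList (rs.take (k + 1))
    let b := rs[k]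
    have hJ : J = I ⊔ Ideal.span {b} := by
      show Ideal.ofList (rs.take (k + 1)) = Ideal.ofList (rs.take k) ⊔ Ideal.span {rs[k]}
      rw [List.take_add_one, List.getElem?_eq_getElem hk', Ideal.ofList_append]
      simp [Ideal.ofList_singleton]
    have hle : I ≤ J := hJ ▸ le_sup_left
    have hreg : RingTheory.Sequence.IsWeaklyRegular A (rs.take (k + 1)) := by
      rw [← List.take_append_drop (k + 1) rs, RingTheory.Sequence.isWeaklyRegular_append_iff] at hrs
      exact hrs.1
    have hlow : Subsingleton (LocCoh.H J k A) :=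
      (hasSeqIn_iff_subsingleton_H (I := J) (k + 1) A).1
        ⟨rs.take (k + 1), by rw [List.length_take]; omega, fun r hr => Ideal.subset_span hr, hreg⟩ k (by omega)
    have hhigh : Subsingleton (LocCoh.H I (k + 1) A) :=
      subsingleton_H_of_length_lt (I := I) (fs := rs.take k) (h := rfl) (i := k + 1) (hi := by rw [List.length_take]; omega) (M := A)
    let S := Submonoid.powers b
    let g := LocalizedModule.mkLinearMap S (LocCoh.H I k A)
    have hinj : Function.Injective g := by
      rw [← LinearMap.ker_eq_bot, LinearMap.ker_eq_bot']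
      intro x hx
      obtain ⟨⟨_, n, rfl⟩, hn⟩ := (IsLocalizedModule.eq_zero_iff S g).1 hx
      obtain ⟨z, hz⟩ := (mem_range_HmapOfLE hJ hle k A x).2 ⟨n, hn⟩
      rw [← hz, Subsingleton.elim (α := LocCoh.H J k A) z 0]
      exact map_zero _
    obtain ⟨q⟩ := nonempty_kerHmap_equiv hJ hle k A (LinearEquiv.refl A (LocCoh.H I k A)) g
    have htop : LinearMap.ker ((Dual2.HmapOfLE hle (k + 1)).app (ModuleCat.of A A)).hom = ⊤ :=
      eq_top_iff.2 fun z _ => Subsingleton.elim (α := LocCoh.H I (k + 1) A) _ _
    let q' := q.trans (LinearEquiv.ofTop _ htop)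
    have hS : (ShortComplex.moduleCatMk g (LinearMap.range g).mkQ
        (LinearMap.exact_map_mkQ_range g).linearMap_comp_eq_zero).ShortExact :=
      { exact := (ShortComplex.ShortExact.moduleCat_exact_iff_function_exact _).2 (LinearMap.exact_map_mkQ_range g)
        mono_f := (ModuleCat.mono_iff_injective _).2 hinj
        epi_g := (ModuleCat.epi_iff_surjective _).2 (Submodule.mkQ_surjective _) }
    refine (Conc.shift hS (ih (by omega)) fun i => ?_).congr q'.toModuleIso
    refine isZero_tor_of_bijective _ _ b ?_ ?_ i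
    · refine ModuleCat.hom_ext (LinearMap.ext fun z => ?_)
      obtain ⟨z, rfl⟩ := Ideal.Quotient.mk_surjective z
      show b • (Submodule.Quotient.mk z : IsLocalRing.ResidueField A) = 0
      rw [← Submodule.Quotient.mk_smul]
      exact (Submodule.Quotient.mk_eq_zero _).2 (Ideal.mul_mem_right _ _ (hm _ (List.getElem_mem hk')))
    · exact (Module.End.isUnit_iff _).1 (IsLocalizedModule.map_units g ⟨b, Submonoid.mem_powers b⟩)

end GorTorLib
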